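import Mathlib
import Groth.Agent.Lib.Helper9.UnipFil.Basic
import Groth.Agent.Lib.Helper9.NQ.Trig

/-!
# Unipotent Hopf algebras: quotients, primitive elements, coconnected filtrations (helper9)
-/

set_option autoImplicit false

universe u v w

open TensorProduct WithConv

namespace Groth.Agent.H9.UnipExt

open Groth.Agent.H9 Groth.Agent.H9.UnipFil Groth.Agent.H9.UnipLie Groth.Agent.H9.NQ

section Surj

variable {k : Type u} [Field k] {A : Type v} [CommRing A] [Bialgebra k A]
  {A' : Type w} [CommRing A'] [Bialgebra k A']

/-- the Kills property passes along coalgebra maps preserving `1` -/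
lemma kills_map (π : A →ₐc[k] A') {n : ℕ} {a : A} (hn : Kills k n a) : Kills k n (π a) := by
  intro m hm l hlen hl
  have h1 := hn m hm (l.map (fun θ => toConv (θ.ofConv ∘ₗ π.toCoalgHom.toLinearMap)))
    (by rw [List.length_map, hlen]) (by
      intro θ' hθ'
      rw [List.mem_map] at hθ'
      obtain ⟨θ, hθ, rfl⟩ := hθ'
      show θ.ofConv (π 1) = 0
      rw [map_one]
      exact hl θ hθ)
  rw [prod_comp_coalgHom] at h1
  exact h1

/-- a quotient of a unipotent group is unipotent (also: closed subgroups, in Hopf terms any
surjective image) -/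
theorem isUnipotent_of_surjective (π : A →ₐc[k] A') (hπ : Function.Surjective π)
    (hA : HopfRep.IsUnipotent k A) : HopfRep.IsUnipotent k A' := by
  apply isUnipotent_of_kills
  intro a'
  obtain ⟨a, rfl⟩ := hπ a'
  obtain ⟨n, hn⟩ := exists_kills hA a
  exact ⟨n, kills_map π hn⟩

/-- the Kills property descends along injective coalgebra maps preserving `1` -/
lemma kills_of_injective (j : A →ₐc[k] A') (hj : Function.Injective j) {n : ℕ} {a : A}
    (hn : Kills k n (j a)) : Kills k n a := by
  intro m hm l hlen hl
  -- extend functionals along `j`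
  have hext : ∀ θ : WithConv (A →ₗ[k] k), ∃ θ' : WithConv (A' →ₗ[k] k),
      θ'.ofConv ∘ₗ j.toCoalgHom.toLinearMap = θ.ofConv := by
    intro θ
    have hj' : LinearMap.ker j.toCoalgHom.toLinearMap = ⊥ := LinearMap.ker_eq_bot.mpr hj
    obtain ⟨g, hg⟩ := LinearMap.exists_leftInverse_of_injective j.toCoalgHom.toLinearMap hj'
    refine ⟨toConv (θ.ofConv ∘ₗ g), ?_⟩
    rw [ofConv_toConv, LinearMap.comp_assoc, hg, LinearMap.comp_id]
  choose ext hext using hext
  have h1 := hn m hm (l.map ext) (by rw [List.length_map, hlen]) (by
    intro θ' hθ'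
    rw [List.mem_map] at hθ'
    obtain ⟨θ, hθ, rfl⟩ := hθ'
    have h2 := LinearMap.congr_fun (hext θ) 1
    rw [LinearMap.comp_apply] at h2
    have h3 : j.toCoalgHom.toLinearMap 1 = (1 : A') := map_one j
    rw [h3] at h2
    rw [h2]
    exact hl θ hθ)
  have h4 : (l.map ext).prod.ofConv ∘ₗ j.toCoalgHom.toLinearMap = l.prod.ofConv := by
    rw [← prod_comp_coalgHom, List.map_map]
    congr 2
    conv_rhs => rw [← List.map_id l]
    apply List.map_congr_left
    intro θ _
    show toConv ((ext θ).ofConv ∘ₗ j.toCoalgHom.toLinearMap) = θ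
    rw [hext θ]
  rw [← h4]
  exact h1

/-- a sub-Hopf-algebra (quotient group) of a unipotent Hopf algebra is unipotent -/
theorem isUnipotent_of_injective (j : A →ₐc[k] A') (hj : Function.Injective j)
    (hA : HopfRep.IsUnipotent k A') : HopfRep.IsUnipotent k A := by
  apply isUnipotent_of_kills
  intro a
  obtain ⟨n, hn⟩ := exists_kills hA (j a)
  exact ⟨n, kills_of_injective j hj hn⟩

end Surj

section SliceLin

variable {k : Type u} [Field k] {A : Type v} [AddCommGroup A] [Module k A]

lemma slice_sub_smul {V : Type w} [AddCommGroup V] [Module k V] (φ ε : A →ₗ[k] k) (c : k)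
    (t : V ⊗[k] A) :
    Comod.slice (φ - c • ε) t = Comod.slice φ t - c • Comod.slice ε t := by
  induction t using TensorProduct.induction_on with
  | zero => simp
  | tmul x b => simp [sub_smul, mul_smul]
  | add x y hx hy => simp only [map_add, hx, hy, smul_add]; abel

end SliceLin

section Prim

variable {k : Type u} [Field k] {A : Type v} [CommRing A] [Bialgebra k A]

/-- values of a product on a slice of the comultiplication -/
lemma prod_apply_slice (ψ φ : WithConv (A →ₗ[k] k)) (a : A) :
    ψ.ofConv (Comod.slice φ.ofConv (CoalgebraStruct.comul (R := k) a)) = (ψ * φ).ofConv a := by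
  rw [apply_eq_counit_slice (ψ * φ).ofConv a]
  have h := slice_mul_coact (V := A) ψ φ a
  have hc : ∀ b : A, Comod.coact (k := k) (A := A) b = CoalgebraStruct.comul (R := k) b :=
    fun _ => rfl
  rw [hc, hc] at h
  rw [h, ← apply_eq_counit_slice]

/-- an element killed by all functionals vanishing at `1` is a scalar -/
lemma mem_span_one_of_killsLen_one {a : A} (h : KillsLen k k 1 a) :
    a ∈ Submodule.span k {(1 : A)} := by
  have h0 : a - CoalgebraStruct.counit (R := k) a • (1 : A) = 0 := by
    rw [← Module.forall_dual_apply_eq_zero_iff k]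
    intro φ
    set θ : WithConv (A →ₗ[k] k) := toConv (φ - φ 1 • CoalgebraStruct.counit (R := k) (A := A))
      with hθ
    have hθ1 : θ.ofConv 1 = 0 := by
      show φ 1 - φ 1 • CoalgebraStruct.counit (R := k) (A := A) 1 = 0
      rw [Bialgebra.counit_one, smul_eq_mul, mul_one, sub_self]
    have h1 := h [θ] rfl (by
      intro θ' hθ'
      rw [List.mem_singleton] at hθ'
      rw [hθ']
      exact hθ1)
    rw [List.prod_singleton] at h1
    have h2 : θ.ofConv a = φ a - φ 1 * CoalgebraStruct.counit (R := k) a := rfl
    rw [map_sub, map_smul, smul_eq_mul]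
    rw [h2] at h1
    rw [mul_comm]
    exact h1
  rw [sub_eq_zero] at h0
  rw [h0]
  exact Submodule.smul_mem _ _ (Submodule.subset_span rfl)

/-- **primitive elements**: an element outside the scalars which is killed by long products of
functionals produces a nonzero primitive element -/
theorem exists_primitive_of_kills : ∀ (n : ℕ) (a : A), Kills k (n + 1) a →
    a ∉ Submodule.span k {(1 : A)} →
    ∃ x : A, x ≠ 0 ∧ CoalgebraStruct.comul (R := k) x = x ⊗ₜ[k] (1 : A) + (1 : A) ⊗ₜ[k] x := by
  intro n
  induction n with
  | zero =>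
    intro a ha hna
    exact absurd (mem_span_one_of_killsLen_one (ha 1 le_rfl)) hna
  | succ n ih =>
    intro a ha hna
    by_cases hcase : ∀ θ : WithConv (A →ₗ[k] k), θ.ofConv 1 = 0 →
        Comod.slice θ.ofConv (CoalgebraStruct.comul (R := k) a) ∈ Submodule.span k {(1 : A)}
    · -- `a - ε(a)` is primitive
      set ε : A →ₗ[k] k := CoalgebraStruct.counit (R := k) (A := A) with hε
      refine ⟨a - ε a • (1 : A), ?_, ?_⟩
      · intro h0
        rw [sub_eq_zero] at h0
        apply hna
        rw [h0]
        exact Submodule.smul_mem _ _ (Submodule.subset_span rfl)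
      · apply eq_of_slice_eq'
        intro φ
        set θ : WithConv (A →ₗ[k] k) := toConv (φ - φ 1 • ε) with hθ
        have hθ1 : θ.ofConv 1 = 0 := by
          show φ 1 - φ 1 • ε 1 = 0
          rw [hε, Bialgebra.counit_one, smul_eq_mul, mul_one, sub_self]
        have hθa : θ.ofConv a = φ a - φ 1 * ε a := rfl
        obtain ⟨c, hc⟩ := Submodule.mem_span_singleton.mp (hcase θ hθ1)
        have hc' : c = θ.ofConv a := by
          have h1 := apply_eq_counit_slice θ.ofConv a
          rw [← hc, map_smul, Bialgebra.counit_one, smul_eq_mul, mul_one] at h1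
          exact h1.symm
        have h2 : Comod.slice φ (CoalgebraStruct.comul (R := k) a) =
            θ.ofConv a • (1 : A) + φ 1 • a := by
          have h3 := slice_sub_smul (V := A) φ ε (φ 1) (CoalgebraStruct.comul (R := k) a)
          have h4 : Comod.slice ε (CoalgebraStruct.comul (R := k) a) = a :=
            Comod.slice_counit_coact (k := k) (A := A) (V := A) a
          rw [h4] at h3
          have h5 : Comod.slice (φ - φ 1 • ε) (CoalgebraStruct.comul (R := k) a) =
              θ.ofConv a • (1 : A) := by
            rw [← hc', hc]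
          rw [h5] at h3
          rw [h3]
          abel
        rw [map_sub, map_smul, Bialgebra.comul_one, Algebra.TensorProduct.one_def, map_sub,
          map_smul, h2, map_add,
          Comod.slice_tmul, Comod.slice_tmul, Comod.slice_tmul, hθa, map_sub, map_smul]
        simp only [smul_eq_mul, sub_smul, smul_sub, mul_smul]
        module
    · push Not at hcase
      obtain ⟨θ, hθ1, hθ⟩ := hcase
      apply ih _ _ hθ
      intro m hm l hlen hl
      rw [prod_apply_slice]
      have h1 := ha (m + 1) (by omega) (l ++ [θ])
        (by rw [List.length_append, List.length_singleton, hlen]) (by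
          intro θ' hθ'
          rcases List.mem_append.mp hθ' with h2 | h2
          · exact hl θ' h2
          · rw [List.mem_singleton] at h2
            rw [h2]; exact hθ1)
      rw [List.prod_append, List.prod_singleton] at h1
      exact h1

/-- a unipotent Hopf algebra which is not reduced to the scalars has a nonzero primitive element -/
theorem exists_primitive_of_isUnipotent (hU : HopfRep.IsUnipotent k A) {a : A}
    (ha : a ∉ Submodule.span k {(1 : A)}) :
    ∃ x : A, x ≠ 0 ∧ CoalgebraStruct.comul (R := k) x = x ⊗ₜ[k] (1 : A) + (1 : A) ⊗ₜ[k] x := by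
  obtain ⟨n, hn⟩ := exists_kills hU a
  exact exists_primitive_of_kills n a (hn.mono (Nat.le_succ n)) ha

end Prim

section Filtration

variable {k : Type u} [Field k] {A : Type v} [CommRing A] [Bialgebra k A]

/-- **coconnected filtrations**: elements of the `r`-th step of a coradical-type filtration are
killed by products of more than `r` functionals vanishing at `1` -/
theorem kills_of_filtration (C : ℕ → Submodule k A)
    (h0 : C 0 = Submodule.span k {(1 : A)})
    (hΔ : ∀ r, Submodule.map (CoalgebraStruct.comul (R := k) (A := A)) (C r) ≤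
      ⨆ i ∈ Finset.range (r + 1), LinearMap.range (TensorProduct.mapIncl (C i) (C (r - i)))) :
    ∀ r, ∀ a ∈ C r, Kills k (r + 1) a := by
  intro r
  induction r using Nat.strong_induction_on with
  | _ r ih =>
    intro a ha m hm l hlen hl
    rcases l with _ | ⟨θ, l'⟩
    · simp at hlen; omega
    rw [List.prod_cons, LinearMap.convMul_apply]
    have hθ : θ.ofConv 1 = 0 := hl θ List.mem_cons_self
    have hl' : ∀ θ' ∈ l', θ'.ofConv 1 = 0 := fun θ' h => hl θ' (List.mem_cons_of_mem _ h)
    have hlen' : l'.length + 1 = m := by rw [← hlen, List.length_cons]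
    set Φ : A ⊗[k] A →ₗ[k] k := LinearMap.mul' k k ∘ₗ TensorProduct.map θ.ofConv l'.prod.ofConv
      with hΦ
    have hker : (⨆ i ∈ Finset.range (r + 1),
        LinearMap.range (TensorProduct.mapIncl (C i) (C (r - i)))) ≤ LinearMap.ker Φ := by
      apply iSup₂_le
      intro i hi
      rw [Finset.mem_range] at hi
      rintro _ ⟨t, rfl⟩
      rw [LinearMap.mem_ker]
      induction t using TensorProduct.induction_on with
      | zero => simp
      | tmul c c' =>
        show Φ ((c : A) ⊗ₜ[k] (c' : A)) = 0
        rw [hΦ, LinearMap.comp_apply, TensorProduct.map_tmul, LinearMap.mul'_apply]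
        rcases Nat.eq_zero_or_pos i with hi0 | hi0
        · have hc : (c : A) ∈ Submodule.span k {(1 : A)} := by
            rw [← h0, ← hi0]; exact c.2
          obtain ⟨s, hs⟩ := Submodule.mem_span_singleton.mp hc
          rw [← hs, map_smul, hθ, smul_zero, zero_mul]
        · have h1 : Kills k (r - i + 1) (c' : A) := ih (r - i) (by omega) _ c'.2
          have h2 := h1 l'.length (by omega) l' rfl hl'
          rw [h2, mul_zero]
      | add x y hx hy => rw [map_add, map_add, hx, hy, add_zero]
    have hmem : CoalgebraStruct.comul (R := k) a ∈ LinearMap.ker Φ :=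
      hker (hΔ r ⟨a, ha, rfl⟩)
    exact hmem

/-- a Hopf algebra with an exhaustive coconnected filtration is unipotent -/
theorem isUnipotent_of_filtration (C : ℕ → Submodule k A) (hmono : Monotone C)
    (h0 : C 0 = Submodule.span k {(1 : A)}) (htop : (⨆ r, C r) = ⊤)
    (hΔ : ∀ r, Submodule.map (CoalgebraStruct.comul (R := k) (A := A)) (C r) ≤
      ⨆ i ∈ Finset.range (r + 1), LinearMap.range (TensorProduct.mapIncl (C i) (C (r - i)))) :
    HopfRep.IsUnipotent k A := by
  apply isUnipotent_of_kills
  intro a
  have ha : a ∈ ⨆ r, C r := by rw [htop]; trivial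
  rw [Submodule.mem_iSup_of_directed _ hmono.directed_le] at ha
  obtain ⟨r, hr⟩ := ha
  exact ⟨r + 1, kills_of_filtration C h0 hΔ r a hr⟩

end Filtration

end Groth.Agent.H9.UnipExt
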