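import Mathlib
import Groth.Agent.Lib.Helper9.UnipExt.Basic
import Groth.Agent.Lib.Helper9.NQ.SGA3
import Groth.Agent.Lib.Helper9.NQ.Inverse

/-!
# Extensions of unipotent groups are unipotent (helper9)
-/

set_option autoImplicit false
set_option linter.style.haveILetI false

universe u v w

open TensorProduct WithConv

namespace Groth.Agent.H9.UnipExt

open Groth.Agent.H9 Groth.Agent.H9.UnipFil Groth.Agent.H9.NQ Groth.Agent.H9.FF
  Groth.Agent.H9.FF.Conv Groth.Agent.H9.Comod Groth.Agent.H9.Stab

section Fixed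

variable {k : Type u} [Field k] {A : Type v} [CommRing A] [HopfAlgebra k A]
  {C : Type w} [CommRing C] [HopfAlgebra k C] {p : A →ₐc[k] C}
  {V : Type*} [AddCommGroup V] [Module k V] [HopfRep.Comod k A V]

/-- matrix coefficients of an eigenvector of `N` transform on the right by its character -/
lemma rchar_mcoef' {v : V} {χ : C}
    (hv : (p : A →ₐ[k] C).toLinearMap.lTensor V (HopfRep.Comod.coact (k := k) (A := A) v) =
      v ⊗ₜ[k] χ) (ψ : V →ₗ[k] k) : RChar p χ (mcoef A ψ v) := by
  unfold RChar
  rw [rho_apply, comul_mcoef, ← LinearMap.comp_apply, LinearMap.lTensor_comp_rTensor,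
    ← LinearMap.rTensor_comp_lTensor, LinearMap.comp_apply, hv, LinearMap.rTensor_tmul]

/-- the invariants of a normal subgroup form a subrepresentation (universe polymorphic) -/
theorem isSubcomod_fixed' (hp : Function.Surjective p) (hn : IsNormalHom p) (W : Submodule k V)
    (hW : ∀ v : V, v ∈ W ↔
      (p : A →ₐ[k] C).toLinearMap.lTensor V (HopfRep.Comod.coact (k := k) (A := A) v) =
        v ⊗ₜ[k] (1 : C)) :
    HopfRep.IsSubcomod (k := k) (A := A) W := by
  rw [isSubcomod_iff_slice]
  intro v hv φ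
  rw [hW] at hv ⊢
  rw [← sub_eq_zero]
  apply eq_zero_of_sliceL_eq_zero
  intro ψ
  rw [map_sub, sub_eq_zero, sliceL_lTensor, sliceL_tmul]
  have ha : LChar p 1 (mcoef A ψ v) :=
    LChar_one_of_mem_coinv hp hn ((mem_coinv p).mpr (rchar_mcoef' hv ψ))
  unfold LChar at ha
  rw [lam_apply] at ha
  have h1' : CoalgebraStruct.comul (R := k) (mcoef A ψ v) =
      (mcoef A ψ).rTensor A (HopfRep.Comod.coact (k := k) (A := A) v) := comul_mcoef ψ v
  have h2 : sliceL ψ (HopfRep.Comod.coact (k := k) (A := A)
      (slice φ (HopfRep.Comod.coact (k := k) (A := A) v))) =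
      slice φ (CoalgebraStruct.comul (R := k) (mcoef A ψ v)) := by
    rw [h1', slice_rTensor]
    rfl
  rw [h2]
  have h3 : (p : A →ₐ[k] C).toLinearMap
      (slice φ (CoalgebraStruct.comul (R := k) (mcoef A ψ v))) =
      slice φ ((p : A →ₐ[k] C).toLinearMap.rTensor A
        (CoalgebraStruct.comul (R := k) (mcoef A ψ v))) := (slice_rTensor _ _ _).symm
  rw [h3, ha, slice_tmul, ← apply_sliceL]
  rfl

end Fixed

section Ext

variable {k : Type u} [Field k] {A : Type v} [CommRing A] [HopfAlgebra k A]
  {B : Type v} [CommRing B] [HopfAlgebra k B] {C : Type v} [CommRing C] [HopfAlgebra k C]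

/-- **an extension of a unipotent group by a unipotent group is unipotent** -/
theorem isUnipotent_of_ext (ψ : B →ₐc[k] A) (p : A →ₐc[k] C) (hψ : Function.Injective ψ)
    (hp : Function.Surjective p)
    (hker : RingHom.ker (p : A →+* C) =
      Ideal.map (ψ : B →+* A) (RingHom.ker (Bialgebra.counitAlgHom k B)))
    (hB : HopfRep.IsUnipotent k B) (hC : HopfRep.IsUnipotent k C) :
    HopfRep.IsUnipotent k A := by
  intro V _ _ c hfin hnt
  have hn : IsNormalHom p := isNormalHom_of_ker_eq_map ψ p hker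
  let cC : HopfRep.Comod k C V := GLin.comodAlong p c
  have hfix : @HopfRep.fixedPts k C _ _ _ V _ _ cC ≠ ⊥ := @hC V _ _ cC hfin hnt
  let W : Submodule k V := @HopfRep.fixedPts k C _ _ _ V _ _ cC
  have hW : ∀ v : V, v ∈ W ↔ (p : A →ₐ[k] C).toLinearMap.lTensor V
      (HopfRep.Comod.coact (k := k) (A := A) v) = v ⊗ₜ[k] (1 : C) := fun v => Iff.rfl
  have hWsub : HopfRep.IsSubcomod (k := k) (A := A) W := isSubcomod_fixed' hp hn W hW
  -- the invariants of the kernel are the image of `ψ`
  have hcoinv : coinv p = (ψ : B →ₐ[k] A).range := by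
    apply coinv_eq_of_ker_eq _ (isHopfSub_range ψ)
    rw [hker, Ideal.map]
    congr 1
    ext a
    constructor
    · rintro ⟨b, hb, rfl⟩
      refine ⟨⟨b, rfl⟩, ?_⟩
      have hb' : Coalgebra.counit (R := k) b = 0 := hb
      show Coalgebra.counit (R := k) (ψ b) = 0
      rw [CoalgHomClass.counit_comp_apply, hb']
    · rintro ⟨⟨b, rfl⟩, h0⟩
      refine ⟨b, ?_, rfl⟩
      have h0' : Coalgebra.counit (R := k) (ψ b) = 0 := h0
      rw [CoalgHomClass.counit_comp_apply] at h0'
      exact h0'
  let cW : HopfRep.Comod k A W := ComodSub.Comod.restr c W hWsub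
  have hcW : ∀ w : W, W.subtype.rTensor A (cW.coact w) = c.coact (w : V) :=
    fun w => ComodSub.restr_coact_coe c W hWsub w
  -- the coefficients of `W` lie in the image of `ψ`
  have hcoef : ∀ w : W, cW.coact w ∈ LinearMap.range ((ψ : B →ₗ[k] A).lTensor W) := by
    intro w
    let D : Submodule k A := Subalgebra.toSubmodule (ψ : B →ₐ[k] A).range
    have h1 : cW.coact w ∈ LinearMap.range (D.subtype.lTensor W) := by
      rw [mem_range_lTensor_subtype_iff_sliceL]
      intro φ
      obtain ⟨φ', hφ'⟩ := LinearMap.exists_extend φ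
      have h2 : sliceL φ (cW.coact w) = mcoef A φ' (w : V) := by
        rw [← hφ', ← sliceL_rTensor, hcW]
        rfl
      rw [h2]
      have h3 : mcoef A φ' (w : V) ∈ coinv p :=
        (mem_coinv p).mpr (rchar_mcoef' ((hW _).mp w.2) φ')
      rw [hcoinv] at h3
      exact h3
    obtain ⟨y, hy⟩ := h1
    let e : B →ₗ[k] D := (ψ : B →ₐ[k] A).rangeRestrict.toLinearMap
    have he : Function.Surjective e := (ψ : B →ₐ[k] A).rangeRestrict_surjective
    obtain ⟨z, hz⟩ := LinearMap.lTensor_surjective W he y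
    refine ⟨z, ?_⟩
    rw [← hy, ← hz, ← LinearMap.comp_apply, ← LinearMap.lTensor_comp]
    rfl
  have hψ' : Function.Injective (ψ.toCoalgHom : B →ₗc[k] A) := hψ
  let cB : HopfRep.Comod k B W := pullComod ψ.toCoalgHom hψ' cW hcoef
  have hcB : ∀ w : W, (ψ : B →ₗ[k] A).lTensor W (cB.coact w) = cW.coact w :=
    fun w => lTensor_pullComod_coact ψ.toCoalgHom hψ' cW hcoef w
  haveI : Nontrivial W := (Submodule.nontrivial_iff_ne_bot).mpr hfix
  have hfinW : Module.Finite k W := inferInstance
  have hfixB : @HopfRep.fixedPts k B _ _ _ W _ _ cB ≠ ⊥ := @hB W _ _ cB hfinW inferInstance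
  obtain ⟨w, hw, hw0⟩ := (Submodule.ne_bot_iff _).mp hfixB
  have hw' : cB.coact w = w ⊗ₜ[k] (1 : B) := hw
  have hwA : c.coact (w : V) = (w : V) ⊗ₜ[k] (1 : A) := by
    rw [← hcW, ← hcB, hw', LinearMap.lTensor_tmul, LinearMap.rTensor_tmul]
    show (w : V) ⊗ₜ[k] ψ 1 = _
    rw [map_one]
  intro hbot
  have hmem : (w : V) ∈ HopfRep.fixedPts k A V := hwA
  rw [hbot, Submodule.mem_bot] at hmem
  exact hw0 (Subtype.ext hmem)

end Ext

section Adjoin

variable {k : Type u} [Field k] {A : Type v} [CommRing A] [HopfAlgebra k A]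

/-- a subalgebra generated by a set stable under comultiplication and antipode is a
sub-Hopf-algebra -/
theorem isHopfSub_adjoin (s : Set A)
    (h1 : ∀ x ∈ s, Coalgebra.comul (R := k) (A := A) x ∈ LinearMap.range
      (TensorProduct.map (Algebra.adjoin k s).val.toLinearMap (Algebra.adjoin k s).val.toLinearMap))
    (h2 : ∀ x ∈ s, HopfAlgebra.antipode k x ∈ Algebra.adjoin k s) :
    IsHopfSub k A (Algebra.adjoin k s) := by
  constructor
  · let Rng : Subalgebra k (A ⊗[k] A) :=
      (Algebra.TensorProduct.map (Algebra.adjoin k s).val (Algebra.adjoin k s).val).range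
    have hRng : ∀ z, z ∈ Rng ↔ z ∈ LinearMap.range
        (TensorProduct.map (Algebra.adjoin k s).val.toLinearMap
          (Algebra.adjoin k s).val.toLinearMap) := fun z => Iff.rfl
    have hle : Algebra.adjoin k s ≤ Rng.comap (Bialgebra.comulAlgHom k A) := by
      apply Algebra.adjoin_le
      intro x hx
      rw [SetLike.mem_coe, Subalgebra.mem_comap, hRng]
      exact h1 x hx
    intro b hb
    exact (hRng _).mp (hle hb)
  · have hle : Algebra.adjoin k s ≤
        (Algebra.adjoin k s).comap (HopfAlgebra.antipodeAlgHom k A) := by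
      apply Algebra.adjoin_le
      intro x hx
      rw [SetLike.mem_coe, Subalgebra.mem_comap]
      exact h2 x hx
    intro b hb
    exact hle hb

variable (x : A)
  (hx : CoalgebraStruct.comul (R := k) x = x ⊗ₜ[k] (1 : A) + (1 : A) ⊗ₜ[k] x)

include hx

lemma counit_primitive : CoalgebraStruct.counit (R := k) x = 0 := by
  have h1 := Coalgebra.rTensor_counit_comul (R := k) x
  rw [hx, map_add, LinearMap.rTensor_tmul, LinearMap.rTensor_tmul, Bialgebra.counit_one] at h1
  have h2 := congrArg (TensorProduct.lid k A) h1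
  rw [map_add, TensorProduct.lid_tmul, TensorProduct.lid_tmul, one_smul] at h2
  have h3 : CoalgebraStruct.counit (R := k) x • (1 : A) = 0 := by
    have := sub_eq_zero.mpr h2
    rw [add_sub_cancel_right] at this
    exact this
  have h4 := congrArg (CoalgebraStruct.counit (R := k) (A := A)) h3
  rw [map_smul, Bialgebra.counit_one, smul_eq_mul, mul_one, map_zero] at h4
  exact h4

lemma antipode_primitive : HopfAlgebra.antipode k x = -x := by
  have h1 := HopfAlgebra.mul_antipode_rTensor_comul_apply (R := k) x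
  rw [hx, map_add, LinearMap.rTensor_tmul, LinearMap.rTensor_tmul, map_add,
    LinearMap.mul'_apply, LinearMap.mul'_apply, HopfAlgebra.antipode_one, mul_one, one_mul,
    counit_primitive x hx, map_zero] at h1
  exact eq_neg_of_add_eq_zero_left h1

/-- the subalgebra generated by a primitive element is a sub-Hopf-algebra -/
theorem isHopfSub_adjoin_primitive : IsHopfSub k A (Algebra.adjoin k {x}) := by
  have hxm : x ∈ Algebra.adjoin k ({x} : Set A) := Algebra.subset_adjoin rfl
  apply isHopfSub_adjoin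
  · intro y hy
    rw [Set.mem_singleton_iff] at hy
    rw [hy, hx]
    refine ⟨(⟨x, hxm⟩ : Algebra.adjoin k ({x} : Set A)) ⊗ₜ[k] 1 +
      1 ⊗ₜ[k] (⟨x, hxm⟩ : Algebra.adjoin k ({x} : Set A)), ?_⟩
    rw [map_add, TensorProduct.map_tmul, TensorProduct.map_tmul]
    rfl
  · intro y hy
    rw [Set.mem_singleton_iff] at hy
    rw [hy, antipode_primitive x hx]
    exact Subalgebra.neg_mem _ hxm

/-- the filtration by degree on `k[x]` -/
def degFil (r : ℕ) : Submodule k A :=
  Submodule.span k (Set.range fun j : Fin (r + 1) => x ^ (j : ℕ))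

omit hx in
lemma pow_mem_degFil {j r : ℕ} (h : j ≤ r) : x ^ j ∈ degFil (k := k) x r :=
  Submodule.subset_span ⟨⟨j, Nat.lt_succ_of_le h⟩, rfl⟩

lemma comul_pow_primitive (r : ℕ) :
    CoalgebraStruct.comul (R := k) (x ^ r) =
      ∑ j ∈ Finset.range (r + 1), (r.choose j : k) • ((x ^ j) ⊗ₜ[k] (x ^ (r - j))) := by
  have h1 : CoalgebraStruct.comul (R := k) (x ^ r) =
      (CoalgebraStruct.comul (R := k) x) ^ r := map_pow (Bialgebra.comulAlgHom k A) x r
  rw [h1, hx, add_pow]
  apply Finset.sum_congr rfl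
  intro j _
  rw [Algebra.TensorProduct.tmul_pow, Algebra.TensorProduct.tmul_pow, one_pow, one_pow,
    Algebra.TensorProduct.tmul_mul_tmul, mul_one, one_mul, mul_comm, ← nsmul_eq_mul,
    Nat.cast_smul_eq_nsmul]

lemma kills_of_mem_degFil (r : ℕ) (a : A) (ha : a ∈ degFil (k := k) x r) : Kills k (r + 1) a := by
  apply kills_of_filtration (degFil (k := k) x) ?_ ?_ r a ha
  · unfold degFil
    congr 1
    ext a
    constructor
    · rintro ⟨j, rfl⟩
      have : (j : ℕ) = 0 := by omega
      show x ^ (j : ℕ) ∈ _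
      rw [this, pow_zero]
      rfl
    · intro h
      rw [Set.mem_singleton_iff] at h
      exact ⟨0, by rw [h]; simp⟩
  · intro r
    rw [Submodule.map_le_iff_le_comap]
    unfold degFil
    rw [Submodule.span_le]
    rintro _ ⟨j, rfl⟩
    rw [SetLike.mem_coe, Submodule.mem_comap]
    show CoalgebraStruct.comul (R := k) (x ^ (j : ℕ)) ∈ _
    rw [comul_pow_primitive x hx]
    apply Submodule.sum_mem
    intro i hi
    rw [Finset.mem_range] at hi
    apply Submodule.smul_mem
    have hir : i ∈ Finset.range (r + 1) := by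
      rw [Finset.mem_range]
      have := j.2
      omega
    apply Submodule.mem_iSup_of_mem i
    apply Submodule.mem_iSup_of_mem hir
    refine ⟨(⟨x ^ i, pow_mem_degFil x le_rfl⟩ : degFil (k := k) x i) ⊗ₜ[k]
      (⟨x ^ ((j : ℕ) - i), pow_mem_degFil x (by have := j.2; omega)⟩ :
        degFil (k := k) x (r - i)), ?_⟩
    rfl

/-- every element of `k[x]`, `x` primitive, is killed by long products -/
theorem exists_kills_of_mem_adjoin_primitive (a : A) (ha : a ∈ Algebra.adjoin k ({x} : Set A)) :
    ∃ n, Kills k n a := by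
  have hspan : (Algebra.adjoin k ({x} : Set A)).toSubmodule =
      Submodule.span k (Set.range fun j : ℕ => x ^ j) := by
    rw [Algebra.adjoin_eq_span]
    congr 1
    ext y
    constructor
    · intro hy
      obtain ⟨j, hj⟩ := (Submonoid.mem_closure_singleton (x := x) (y := y)).mp hy
      exact ⟨j, hj⟩
    · rintro ⟨j, rfl⟩
      exact pow_mem (Submonoid.subset_closure (Set.mem_singleton x)) j
  have ha' : a ∈ Submodule.span k (Set.range fun j : ℕ => x ^ j) := by
    rw [← hspan]; exact ha
  have hex : ∃ r, a ∈ degFil (k := k) x r := by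
    clear ha
    induction ha' using Submodule.span_induction with
    | mem y hy =>
      obtain ⟨j, rfl⟩ := hy
      exact ⟨j, pow_mem_degFil x le_rfl⟩
    | zero => exact ⟨0, Submodule.zero_mem _⟩
    | add y z _ _ hy hz =>
      obtain ⟨r1, h1⟩ := hy
      obtain ⟨r2, h2⟩ := hz
      have hm : ∀ {r r' : ℕ}, r ≤ r' → degFil (k := k) x r ≤ degFil (k := k) x r' := by
        intro r r' hrr'
        unfold degFil
        apply Submodule.span_mono
        rintro _ ⟨j, rfl⟩
        exact ⟨⟨j, by have := j.2; omega⟩, rfl⟩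
      exact ⟨max r1 r2, Submodule.add_mem _ (hm (le_max_left _ _) h1) (hm (le_max_right _ _) h2)⟩
    | smul c y _ hy =>
      obtain ⟨r, h⟩ := hy
      exact ⟨r, Submodule.smul_mem _ c h⟩
  obtain ⟨r, hr⟩ := hex
  exact ⟨r + 1, kills_of_mem_degFil x hx r a hr⟩

/-- `k[x]` with `x` primitive is a unipotent Hopf algebra -/
theorem isUnipotent_adjoin_primitive :
    letI := (isHopfSub_adjoin_primitive x hx).hopfAlgebra
    HopfRep.IsUnipotent k (Algebra.adjoin k ({x} : Set A)) := by
  letI := (isHopfSub_adjoin_primitive x hx).hopfAlgebra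
  apply isUnipotent_of_kills
  intro b
  obtain ⟨n, hn⟩ := exists_kills_of_mem_adjoin_primitive x hx (b : A) b.2
  refine ⟨n, ?_⟩
  exact kills_of_injective (isHopfSub_adjoin_primitive x hx).incl Subtype.val_injective hn

end Adjoin

end Groth.Agent.H9.UnipExt
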