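import Mathlib
import Groth.Agent.Lib.Helper9.UnipExt.Ext
import Groth.Agent.Lib.Helper9.NQ.AugHopf
import Groth.Agent.Lib.Helper9.NQ.BialgHom

/-!
# Unipotence and primitive elements (helper9)

A finitely generated commutative Hopf algebra is unipotent iff every nontrivial quotient Hopf
algebra has a nonzero primitive element.
-/

set_option autoImplicit false
set_option linter.style.haveILetI false

universe u v w

open TensorProduct WithConv

namespace Groth.Agent.H9.UnipExt

open Groth.Agent.H9 Groth.Agent.H9.UnipFil Groth.Agent.H9.NQ Groth.Agent.H9.FF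
  Groth.Agent.H9.FF.Conv

section Ker

variable {k : Type u} [Field k] {A : Type v} [CommRing A] [HopfAlgebra k A]
  {C : Type w} [CommRing C] [HopfAlgebra k C]

/-- the kernel of a homomorphism of Hopf algebras over a field is a Hopf ideal -/
theorem isHopfIdeal_ker (φ : A →ₐc[k] C) : (RingHom.ker (φ : A →+* C)).IsHopfIdeal k := by
  have hmem : ∀ a : A, a ∈ RingHom.ker (φ : A →+* C) ↔ φ a = 0 := fun a => RingHom.mem_ker
  let M : Submodule k A := (RingHom.ker (φ : A →+* C)).restrictScalars k
  have hM : ∀ a : A, a ∈ M ↔ φ a = 0 := fun a => hmem a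
  let φbar : (A ⧸ M) →ₗ[k] C := M.liftQ (φ : A →ₗ[k] C) (by
    intro a ha
    exact (hM a).mp ha)
  have hφbar : Function.Injective φbar := by
    rw [← LinearMap.ker_eq_bot]
    apply Submodule.ker_liftQ_eq_bot
    intro a ha
    exact (hM a).mpr ha
  have hcomp : φbar ∘ₗ M.mkQ = (φ : A →ₗ[k] C) := Submodule.liftQ_mkQ _ _ _
  refine { counit_eq_zero := ?_, map_mkQ_comul_eq_zero := ?_, antipode_mem := ?_ }
  · intro x hx
    have h1 : φ x = 0 := (hM x).mp hx
    have h2 := CoalgHomClass.counit_comp_apply φ x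
    rw [h1, map_zero] at h2
    exact h2.symm
  · intro x hx
    have h1 : φ x = 0 := (hM x).mp hx
    have hinj : Function.Injective (TensorProduct.map φbar φbar) :=
      TensorProduct.map_injective_of_flat_flat _ _ hφbar hφbar
    apply hinj
    rw [map_zero, ← LinearMap.comp_apply, ← TensorProduct.map_comp, hcomp]
    have h2 := CoalgHomClass.map_comp_comul_apply φ x
    rw [h1, map_zero] at h2
    exact h2
  · intro x hx
    rw [hmem] at hx ⊢
    rw [Conv.bialgHom_antipode φ x, hx, map_zero]

end Ker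

section Trivial

variable {k : Type u} [Field k] {A : Type v} [CommRing A] [Bialgebra k A]

/-- a bialgebra reduced to the scalars is unipotent -/
theorem isUnipotent_of_forall_mem_span_one (h : ∀ a : A, a ∈ Submodule.span k {(1 : A)}) :
    HopfRep.IsUnipotent k A := by
  apply isUnipotent_of_filtration (fun _ => Submodule.span k {(1 : A)}) (fun _ _ _ => le_rfl) rfl
  · rw [eq_top_iff]
    intro a _
    exact Submodule.mem_iSup_of_mem 0 (h a)
  · intro r
    rw [Submodule.map_le_iff_le_comap, Submodule.span_le]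
    intro a ha
    rw [Set.mem_singleton_iff] at ha
    rw [SetLike.mem_coe, Submodule.mem_comap, ha, Bialgebra.comul_one]
    apply Submodule.mem_iSup_of_mem 0
    apply Submodule.mem_iSup_of_mem (Finset.mem_range.mpr (Nat.succ_pos r))
    refine ⟨(⟨1, Submodule.subset_span rfl⟩ : Submodule.span k {(1 : A)}) ⊗ₜ[k]
      (⟨1, Submodule.subset_span rfl⟩ : Submodule.span k {(1 : A)}), ?_⟩
    rfl

end Trivial

section Main

variable {k : Type u} [Field k] {A : Type v} [CommRing A] [HopfAlgebra k A]

/-- a Hopf algebra with a nonzero primitive element all of whose proper quotient Hopf algebras are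
unipotent is unipotent -/
theorem isUnipotent_of_primitive (x : A) (hx0 : x ≠ 0)
    (hx : CoalgebraStruct.comul (R := k) x = x ⊗ₜ[k] (1 : A) + (1 : A) ⊗ₜ[k] x)
    (hN : ∀ (J : Ideal A) [J.IsHopfIdeal k], J ≠ ⊥ → HopfRep.IsUnipotent k (A ⧸ J)) :
    HopfRep.IsUnipotent k A := by
  have hB := isHopfSub_adjoin_primitive x hx
  letI : HopfAlgebra k ↥(Algebra.adjoin k ({x} : Set A)) := hB.hopfAlgebra
  let ψ : ↥(Algebra.adjoin k ({x} : Set A)) →ₐc[k] A := hB.incl
  have hf : ∀ b, algebraMap ↥(Algebra.adjoin k ({x} : Set A)) A b = ψ b := fun _ => rfl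
  haveI hJ : (augIdeal k A ↥(Algebra.adjoin k ({x} : Set A))).IsHopfIdeal k :=
    isHopfIdeal_augIdeal ψ hf
  have hxm : x ∈ Algebra.adjoin k ({x} : Set A) := Algebra.subset_adjoin rfl
  have hxJ : x ∈ augIdeal k A ↥(Algebra.adjoin k ({x} : Set A)) := by
    show algebraMap ↥(Algebra.adjoin k ({x} : Set A)) A ⟨x, hxm⟩ ∈ _
    apply Ideal.mem_map_of_mem
    rw [RingHom.mem_ker]
    show CoalgebraStruct.counit (R := k) (ψ ⟨x, hxm⟩) = 0
    exact counit_primitive x hx
  have hJne : augIdeal k A ↥(Algebra.adjoin k ({x} : Set A)) ≠ ⊥ := by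
    intro h0
    rw [h0, Ideal.mem_bot] at hxJ
    exact hx0 hxJ
  have hC := hN _ hJne
  have hBu := isUnipotent_adjoin_primitive x hx
  refine isUnipotent_of_ext ψ
    (Bialgebra.Quotient.mkBialgHom (augIdeal k A ↥(Algebra.adjoin k ({x} : Set A))))
    Subtype.val_injective Ideal.Quotient.mk_surjective ?_ hBu hC
  ext a
  rw [RingHom.mem_ker]
  show Ideal.Quotient.mk _ a = 0 ↔ _
  rw [Ideal.Quotient.eq_zero_iff_mem]
  rfl

variable [Algebra.FiniteType k A]

/-- **unipotence from primitive elements**: if every nontrivial quotient Hopf algebra has a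
nonzero primitive element, the Hopf algebra is unipotent -/
theorem isUnipotent_quot_of_forall_primitive
    (h : ∀ (I : Ideal A) [I.IsHopfIdeal k], I ≠ RingHom.ker (Bialgebra.counitAlgHom k A) →
      ∃ x : A ⧸ I, x ≠ 0 ∧
        CoalgebraStruct.comul (R := k) x = x ⊗ₜ[k] (1 : A ⧸ I) + (1 : A ⧸ I) ⊗ₜ[k] x) :
    ∀ (I : Ideal A) [I.IsHopfIdeal k], HopfRep.IsUnipotent k (A ⧸ I) := by
  haveI : IsNoetherianRing A := Algebra.FiniteType.isNoetherianRing k A
  intro I
  induction I using IsNoetherian.induction with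
  | hgt I ih =>
    intro hI
    by_cases hIaug : I = RingHom.ker (Bialgebra.counitAlgHom k A)
    · apply isUnipotent_of_forall_mem_span_one
      intro abar
      obtain ⟨a, rfl⟩ := Ideal.Quotient.mk_surjective abar
      have h1 : a - algebraMap k A (CoalgebraStruct.counit (R := k) a) ∈ I := by
        rw [hIaug, RingHom.mem_ker, map_sub]
        simp
      have h2 := (Ideal.Quotient.mk_eq_mk_iff_sub_mem _ _).mpr h1
      rw [h2]
      have h3 : Ideal.Quotient.mk I (algebraMap k A (CoalgebraStruct.counit (R := k) a)) =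
          CoalgebraStruct.counit (R := k) a • (1 : A ⧸ I) := by
        rw [Algebra.algebraMap_eq_smul_one]
        rfl
      rw [h3]
      exact Submodule.smul_mem _ _ (Submodule.subset_span rfl)
    · obtain ⟨x, hx0, hx⟩ := h I hIaug
      apply isUnipotent_of_primitive x hx0 hx
      intro J' hJ' hJ'ne
      -- the preimage of `J'` in `A`
      let f : A →ₐc[k] (A ⧸ I) ⧸ J' :=
        (Bialgebra.Quotient.mkBialgHom J').comp (Bialgebra.Quotient.mkBialgHom I)
      have hf : ∀ a, f a = Ideal.Quotient.mk J' (Ideal.Quotient.mk I a) := fun _ => rfl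
      let J : Ideal A := RingHom.ker (f : A →+* (A ⧸ I) ⧸ J')
      haveI hJ : J.IsHopfIdeal k := isHopfIdeal_ker f
      have hJmem : ∀ a, a ∈ J ↔ Ideal.Quotient.mk I a ∈ J' := by
        intro a
        show a ∈ RingHom.ker (f : A →+* (A ⧸ I) ⧸ J') ↔ _
        rw [RingHom.mem_ker]
        show f a = 0 ↔ _
        rw [hf, Ideal.Quotient.eq_zero_iff_mem]
      have hIJ : I < J := by
        refine lt_of_le_of_ne ?_ ?_
        · intro a ha
          rw [hJmem, Ideal.Quotient.eq_zero_iff_mem.mpr ha]
          exact Submodule.zero_mem _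
        · intro hIJ
          apply hJ'ne
          rw [eq_bot_iff]
          intro y hy
          obtain ⟨a, rfl⟩ := Ideal.Quotient.mk_surjective y
          have : a ∈ J := (hJmem a).mpr hy
          rw [← hIJ] at this
          rw [Ideal.mem_bot]
          exact Ideal.Quotient.eq_zero_iff_mem.mpr this
      have hU : HopfRep.IsUnipotent k (A ⧸ J) := ih J hIJ
      let g : A ⧸ J →ₐ[k] (A ⧸ I) ⧸ J' := Ideal.Quotient.liftₐ J (f : A →ₐ[k] (A ⧸ I) ⧸ J')
        (fun a ha => ha)
      let gb : A ⧸ J →ₐc[k] (A ⧸ I) ⧸ J' :=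
        bialgHomOfSurjective (Bialgebra.Quotient.mkBialgHom J) Ideal.Quotient.mk_surjective f g
          (by ext a; rfl)
      have hgb : Function.Surjective gb := by
        intro z
        obtain ⟨y, rfl⟩ := Ideal.Quotient.mk_surjective z
        obtain ⟨a, rfl⟩ := Ideal.Quotient.mk_surjective y
        exact ⟨Ideal.Quotient.mk J a, rfl⟩
      exact isUnipotent_of_surjective gb hgb hU

end Main

end Groth.Agent.H9.UnipExt
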